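import Cfsg.Agent.Helper39.LieOrd.Sums

/-!
# Order bounds for the classical families (helper39, for S2363)

Each lemma takes the order formula in the exact shape of the landed statement
(`S0243`, `S0245/S0246`, `S0280`, `S0292`, `S0293`, `S0294`) with `q = p^f`.
-/

set_option autoImplicit false

namespace Cfsg.Agent.Helper39.LieOrd

/-- the conclusion for a group order `c` -/
def Good (p c : ℕ) : Prop :=
  c < p ^ (3 * c.factorization p) ∧ c ^ 3 < p ^ (8 * c.factorization p)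

theorem q_facts {p f : ℕ} (hp : p.Prime) (hf : f ≠ 0) :
    2 ≤ p ^ f ∧ p ∣ p ^ f ∧ p ^ f ≠ 0 := by
  refine ⟨?_, dvd_pow_self p hf, (pow_pos hp.pos f).ne'⟩
  calc 2 ≤ p := hp.two_le
    _ = p ^ 1 := (pow_one p).symm
    _ ≤ p ^ f := Nat.pow_le_pow_right hp.pos (Nat.one_le_iff_ne_zero.2 hf)

/-- rewriting of the PSL product -/
theorem psl_prod (q m : ℕ) :
    ∏ i : Fin (m + 1), (q ^ (m + 1) - q ^ (i : ℕ)) =
      q ^ (∑ i ∈ Finset.range (m + 1), i) *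
        ((∏ j ∈ Finset.range m, (q ^ (j + 2) - 1)) * (q - 1)) := by
  rw [Fin.prod_univ_eq_prod_range (fun i => q ^ (m + 1) - q ^ i) (m + 1)]
  have h1 : ∀ i ∈ Finset.range (m + 1), q ^ (m + 1) - q ^ i = q ^ i * (q ^ (m + 1 - i) - 1) := by
    intro i hi
    have hi' : i ≤ m + 1 := (Finset.mem_range.1 hi).le
    rw [Nat.mul_sub, mul_one, ← pow_add, Nat.add_sub_cancel' hi']
  rw [Finset.prod_congr rfl h1, Finset.prod_mul_distrib, Finset.prod_pow_eq_pow_sum]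
  congr 1
  have h2 : ∏ i ∈ Finset.range (m + 1), (q ^ (m + 1 - i) - 1) =
      ∏ j ∈ Finset.range (m + 1), (q ^ (j + 1) - 1) := by
    rw [← Finset.prod_range_reflect (fun j => q ^ (j + 1) - 1) (m + 1)]
    refine Finset.prod_congr rfl ?_
    intro j hj
    have hj' : j < m + 1 := Finset.mem_range.1 hj
    have e : m + 1 - 1 - j + 1 = m + 1 - j := by omega
    rw [e]
  rw [h2, Finset.prod_range_succ']
  simp only [zero_add, pow_one]

theorem psl_bounds {p f n c : ℕ} (hp : p.Prime) (hf : f ≠ 0) (hn : 2 ≤ n)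
    (h : Nat.gcd n (p ^ f - 1) * ((p ^ f - 1) * c) =
      ∏ i : Fin n, ((p ^ f) ^ n - (p ^ f) ^ (i : ℕ))) :
    c < p ^ (3 * c.factorization p) ∧ (n = 2 → c.factorization p = f) ∧
      (3 ≤ n → c ^ 3 < p ^ (8 * c.factorization p)) := by
  obtain ⟨hq2, hpq, hq0⟩ := q_facts hp hf
  obtain ⟨m, rfl⟩ : ∃ m, n = m + 1 := ⟨n - 1, by omega⟩
  have hm : 1 ≤ m := by omega
  rw [psl_prod (p ^ f) m] at h
  have hq1 : 0 < p ^ f - 1 := by omega
  have h' : Nat.gcd (m + 1) (p ^ f - 1) * c =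
      (p ^ f) ^ (∑ i ∈ Finset.range (m + 1), i) * ∏ j ∈ Finset.range m, ((p ^ f) ^ (j + 2) - 1) := by
    apply Nat.eq_of_mul_eq_mul_left hq1
    calc (p ^ f - 1) * (Nat.gcd (m + 1) (p ^ f - 1) * c)
        = Nat.gcd (m + 1) (p ^ f - 1) * ((p ^ f - 1) * c) := by ring
      _ = _ := h
      _ = _ := by ring
  have hd : ¬ p ∣ Nat.gcd (m + 1) (p ^ f - 1) :=
    not_dvd_of_dvd_sub_one hp hpq hq0 (Nat.gcd_dvd_right _ _)
  have hM : ¬ p ∣ ∏ j ∈ Finset.range m, ((p ^ f) ^ (j + 2) - 1) :=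
    not_dvd_prod hp _ _ (fun j _ => not_dvd_sub_one hp hpq hq0 (by omega))
  have hB := prod_sub_one_lt (q := p ^ f) (by omega) (fun j => j + 2) m hm
  obtain ⟨h1, h2, h3⟩ := core hp hd hM h' hB (sum_cmp1 m hm)
  refine ⟨h2, ?_, ?_⟩
  · intro hn2
    have : m = 1 := by omega
    subst this
    rw [h1]
    simp [Finset.sum_range_succ]
  · intro hn3
    exact h3 (sum_cmp2 m (by omega))

theorem psu_bounds {p f n c : ℕ} (hp : p.Prime) (hf : f ≠ 0) (hn : 3 ≤ n)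
    (h : Nat.gcd n (p ^ f + 1) * ((p ^ f + 1) * c) =
      (p ^ f) ^ (n * (n - 1) / 2) * ∏ i ∈ Finset.range n,
        (if Even i then (p ^ f) ^ (i + 1) + 1 else (p ^ f) ^ (i + 1) - 1)) : Good p c := by
  obtain ⟨hq2, hpq, hq0⟩ := q_facts hp hf
  obtain ⟨m, rfl⟩ : ∃ m, n = m + 1 := ⟨n - 1, by omega⟩
  have hm : 2 ≤ m := by omega
  have hprod : ∏ i ∈ Finset.range (m + 1),
      (if Even i then (p ^ f) ^ (i + 1) + 1 else (p ^ f) ^ (i + 1) - 1) =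
      (∏ i ∈ Finset.range m, altF (p ^ f) i) * (p ^ f + 1) := by
    rw [Finset.prod_range_succ']
    simp only [Even.zero, if_true, zero_add, pow_one]
    rfl
  rw [hprod, ← Finset.sum_range_id] at h
  have hq1 : 0 < p ^ f + 1 := by omega
  have h' : Nat.gcd (m + 1) (p ^ f + 1) * c =
      (p ^ f) ^ (∑ i ∈ Finset.range (m + 1), i) * ∏ i ∈ Finset.range m, altF (p ^ f) i := by
    apply Nat.eq_of_mul_eq_mul_left hq1
    calc (p ^ f + 1) * (Nat.gcd (m + 1) (p ^ f + 1) * c)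
        = Nat.gcd (m + 1) (p ^ f + 1) * ((p ^ f + 1) * c) := by ring
      _ = _ := h
      _ = _ := by ring
  have hd : ¬ p ∣ Nat.gcd (m + 1) (p ^ f + 1) :=
    not_dvd_of_dvd_add_one hp hpq (Nat.gcd_dvd_right _ _)
  have hM : ¬ p ∣ ∏ i ∈ Finset.range m, altF (p ^ f) i :=
    not_dvd_prod hp _ _ (fun i _ => altF_not_dvd hp hpq hq0 i)
  have hB := altProd_lt hq2 m (by omega)
  obtain ⟨_, h2, h3⟩ := core hp hd hM h' hB (sum_cmp1 m (by omega))
  exact ⟨h2, h3 (sum_cmp2 m hm)⟩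

/-- symplectic / odd orthogonal shape -/
theorem bc_bounds {p f m d c : ℕ} (hp : p.Prime) (hf : f ≠ 0) (hm : 2 ≤ m) (hd : ¬ p ∣ d)
    (h : d * c = (p ^ f) ^ (m ^ 2) * ∏ i ∈ Finset.range m, ((p ^ f) ^ (2 * (i + 1)) - 1)) :
    Good p c := by
  obtain ⟨hq2, hpq, hq0⟩ := q_facts hp hf
  have hM : ¬ p ∣ ∏ i ∈ Finset.range m, ((p ^ f) ^ (2 * (i + 1)) - 1) :=
    not_dvd_prod hp _ _ (fun j _ => not_dvd_sub_one hp hpq hq0 (by omega))
  have hB := prod_sub_one_lt (q := p ^ f) (by omega) (fun i => 2 * (i + 1)) m (by omega)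
  rw [sum_two] at hB
  obtain ⟨_, h2, h3⟩ := core hp hd hM h hB (by nlinarith)
  exact ⟨h2, h3 (by nlinarith)⟩

/-- plus type -/
theorem dplus_bounds {p f m d c : ℕ} (hp : p.Prime) (hf : f ≠ 0) (hm : 4 ≤ m) (hd : ¬ p ∣ d)
    (h : d * c = (p ^ f) ^ (m * (m - 1)) * ((p ^ f) ^ m - 1) *
      ∏ i ∈ Finset.range (m - 1), ((p ^ f) ^ (2 * (i + 1)) - 1)) : Good p c := by
  obtain ⟨hq2, hpq, hq0⟩ := q_facts hp hf
  obtain ⟨j, rfl⟩ : ∃ j, m = j + 1 := ⟨m - 1, by omega⟩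
  have hj : 3 ≤ j := by omega
  rw [Nat.add_sub_cancel, mul_assoc] at h
  have hM : ¬ p ∣ ((p ^ f) ^ (j + 1) - 1) *
      ∏ i ∈ Finset.range j, ((p ^ f) ^ (2 * (i + 1)) - 1) :=
    not_dvd_mul hp (not_dvd_sub_one hp hpq hq0 (by omega))
      (not_dvd_prod hp _ _ (fun i _ => not_dvd_sub_one hp hpq hq0 (by omega)))
  have hB0 := prod_sub_one_lt (q := p ^ f) (by omega) (fun i => 2 * (i + 1)) j (by omega)
  rw [sum_two] at hB0
  have hB := lt_pow_mul (sub_one_lt_pow (q := p ^ f) (by omega) (j + 1)) hB0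
  obtain ⟨_, h2, h3⟩ := core hp hd hM h hB (by nlinarith)
  exact ⟨h2, h3 (by nlinarith)⟩

/-- minus type -/
theorem dminus_bounds {p f m d c : ℕ} (hp : p.Prime) (hf : f ≠ 0) (hm : 4 ≤ m) (hd : ¬ p ∣ d)
    (h : d * c = (p ^ f) ^ (m * (m - 1)) * ((p ^ f) ^ m + 1) *
      ∏ i ∈ Finset.range (m - 1), ((p ^ f) ^ (2 * (i + 1)) - 1)) : Good p c := by
  obtain ⟨hq2, hpq, hq0⟩ := q_facts hp hf
  obtain ⟨j, rfl⟩ : ∃ j, m = j + 1 := ⟨m - 1, by omega⟩
  have hj : 3 ≤ j := by omega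
  rw [Nat.add_sub_cancel, mul_assoc] at h
  have hM : ¬ p ∣ ((p ^ f) ^ (j + 1) + 1) *
      ∏ i ∈ Finset.range j, ((p ^ f) ^ (2 * (i + 1)) - 1) :=
    not_dvd_mul hp (not_dvd_add_one hp hpq (by omega))
      (not_dvd_prod hp _ _ (fun i _ => not_dvd_sub_one hp hpq hq0 (by omega)))
  have hB0 := prod_sub_one_lt (q := p ^ f) (by omega) (fun i => 2 * (i + 1)) j (by omega)
  rw [sum_two] at hB0
  have hB := lt_pow_mul (add_one_lt_pow (q := p ^ f) hq2 (j + 1) (by omega)) hB0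
  obtain ⟨_, h2, h3⟩ := core hp hd hM h hB (by nlinarith)
  exact ⟨h2, h3 (by nlinarith)⟩

end Cfsg.Agent.Helper39.LieOrd
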