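import Mathlib

/-!
# Arithmetic core for S2363 (helper39)

`core`: if `d * n = (p^f)^N * M` with `p ∤ d`, `p ∤ M` and `M < (p^f)^B` with `B ≤ 2N`, then
`v_p(n) = f N`, `n < p^(3 v_p(n))` and, if moreover `3B ≤ 5N`, `n^3 < p^(8 v_p(n))`.
-/

set_option autoImplicit false

namespace Cfsg.Agent.Helper39.LieOrd

theorem core {p f N B d n M : ℕ} (hp : p.Prime) (hd : ¬ p ∣ d) (hM : ¬ p ∣ M)
    (h : d * n = (p ^ f) ^ N * M) (hB : M < (p ^ f) ^ B) (hBN : B ≤ 2 * N) :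
    n.factorization p = f * N ∧ n < p ^ (3 * n.factorization p) ∧
      (3 * B ≤ 5 * N → n ^ 3 < p ^ (8 * n.factorization p)) := by
  have hd0 : d ≠ 0 := fun h0 => hd (h0 ▸ dvd_zero p)
  have hM0 : M ≠ 0 := fun h0 => hM (h0 ▸ dvd_zero p)
  have hq0 : 0 < p ^ f := pow_pos hp.pos f
  have hq1 : 1 ≤ p ^ f := hq0
  have hn0 : n ≠ 0 := by
    rintro rfl
    rw [mul_zero] at h
    have : (p ^ f) ^ N * M ≠ 0 := mul_ne_zero (pow_ne_zero _ hq0.ne') hM0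
    exact this h.symm
  have hfac : n.factorization p = f * N := by
    have h1 : (d * n).factorization p = n.factorization p := by
      rw [Nat.factorization_mul hd0 hn0, Finsupp.add_apply,
        Nat.factorization_eq_zero_of_not_dvd hd, zero_add]
    have h2 : ((p ^ f) ^ N * M).factorization p = f * N := by
      rw [Nat.factorization_mul (pow_ne_zero _ hq0.ne') hM0, Finsupp.add_apply,
        Nat.factorization_eq_zero_of_not_dvd hM, add_zero, ← pow_mul,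
        Nat.Prime.factorization_pow hp, Finsupp.single_eq_same]
    rw [← h1, h, h2]
  have hle : n ≤ d * n := Nat.le_mul_of_pos_left n (Nat.pos_of_ne_zero hd0)
  have hlt : d * n < (p ^ f) ^ (N + B) := by
    rw [h, pow_add]
    exact Nat.mul_lt_mul_of_pos_left hB (pow_pos hq0 N)
  refine ⟨hfac, ?_, ?_⟩
  · rw [hfac]
    calc n ≤ d * n := hle
      _ < (p ^ f) ^ (N + B) := hlt
      _ ≤ (p ^ f) ^ (3 * N) := Nat.pow_le_pow_right hq1 (by omega)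
      _ = p ^ (3 * (f * N)) := by rw [← pow_mul]; congr 1; ring
  · intro h35
    rw [hfac]
    calc n ^ 3 ≤ (d * n) ^ 3 := Nat.pow_le_pow_left hle 3
      _ < ((p ^ f) ^ (N + B)) ^ 3 := Nat.pow_lt_pow_left hlt (by norm_num)
      _ = (p ^ f) ^ (3 * N + 3 * B) := by rw [← pow_mul]; congr 1; ring
      _ ≤ (p ^ f) ^ (8 * N) := Nat.pow_le_pow_right hq1 (by omega)
      _ = p ^ (8 * (f * N)) := by rw [← pow_mul]; congr 1; ring

theorem not_dvd_sub_one {p q j : ℕ} (hp : p.Prime) (hq : p ∣ q) (hq0 : q ≠ 0) (hj : j ≠ 0) :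
    ¬ p ∣ q ^ j - 1 := by
  intro h
  have h1 : 1 ≤ q ^ j := Nat.one_le_pow _ _ (Nat.pos_of_ne_zero hq0)
  have h2 : p ∣ q ^ j := dvd_pow hq hj
  have h3 : p ∣ q ^ j - (q ^ j - 1) := Nat.dvd_sub h2 h
  have h4 : q ^ j - (q ^ j - 1) = 1 := by omega
  rw [h4] at h3
  exact hp.one_lt.ne' (Nat.dvd_one.1 h3)

theorem not_dvd_add_one {p q j : ℕ} (hp : p.Prime) (hq : p ∣ q) (hj : j ≠ 0) :
    ¬ p ∣ q ^ j + 1 := by
  intro h
  have h2 : p ∣ q ^ j := dvd_pow hq hj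
  have h3 : p ∣ 1 := (Nat.dvd_add_right h2).1 h
  exact hp.one_lt.ne' (Nat.dvd_one.1 h3)

theorem not_dvd_mul {p a b : ℕ} (hp : p.Prime) (ha : ¬ p ∣ a) (hb : ¬ p ∣ b) : ¬ p ∣ a * b := by
  intro h
  rcases (Nat.Prime.dvd_mul hp).1 h with h | h
  · exact ha h
  · exact hb h

theorem not_dvd_prod {p : ℕ} (hp : p.Prime) (g : ℕ → ℕ) (n : ℕ)
    (h : ∀ i, i < n → ¬ p ∣ g i) : ¬ p ∣ ∏ i ∈ Finset.range n, g i := by
  intro hd
  obtain ⟨i, hi, hdi⟩ := (Prime.dvd_finsetProd_iff (Nat.prime_iff.1 hp) g).1 hd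
  exact h i (Finset.mem_range.1 hi) hdi

theorem not_dvd_of_dvd_sub_one {p q d : ℕ} (hp : p.Prime) (hq : p ∣ q) (hq0 : q ≠ 0)
    (hd : d ∣ q - 1) : ¬ p ∣ d := by
  intro h
  have := not_dvd_sub_one hp hq hq0 one_ne_zero
  rw [pow_one] at this
  exact this (h.trans hd)

theorem not_dvd_of_dvd_add_one {p q d : ℕ} (hp : p.Prime) (hq : p ∣ q)
    (hd : d ∣ q + 1) : ¬ p ∣ d := by
  intro h
  have := not_dvd_add_one (q := q) hp hq one_ne_zero
  rw [pow_one] at this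
  exact this (h.trans hd)

/-- `∏ (q^{a i} - 1) ≤ q^{∑ a i}`, strictly for a nonempty range. -/
theorem prod_sub_one_le (q : ℕ) (a : ℕ → ℕ) (n : ℕ) :
    ∏ i ∈ Finset.range n, (q ^ a i - 1) ≤ q ^ ∑ i ∈ Finset.range n, a i := by
  induction n with
  | zero => simp
  | succ n ih =>
    rw [Finset.prod_range_succ, Finset.sum_range_succ, pow_add]
    exact Nat.mul_le_mul ih (Nat.sub_le _ _)

theorem prod_sub_one_lt {q : ℕ} (hq : 1 ≤ q) (a : ℕ → ℕ) (n : ℕ) (hn : 0 < n) :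
    ∏ i ∈ Finset.range n, (q ^ a i - 1) < q ^ ∑ i ∈ Finset.range n, a i := by
  obtain ⟨m, rfl⟩ := Nat.exists_eq_succ_of_ne_zero hn.ne'
  rw [Finset.prod_range_succ, Finset.sum_range_succ, pow_add]
  have h1 : 0 < q ^ a m := pow_pos hq _
  have h2 : 0 < q ^ ∑ i ∈ Finset.range m, a i := pow_pos hq _
  calc (∏ i ∈ Finset.range m, (q ^ a i - 1)) * (q ^ a m - 1)
      ≤ q ^ (∑ i ∈ Finset.range m, a i) * (q ^ a m - 1) :=
        Nat.mul_le_mul_right _ (prod_sub_one_le q a m)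
    _ < q ^ (∑ i ∈ Finset.range m, a i) * q ^ a m :=
        Nat.mul_lt_mul_of_pos_left (by omega) h2

theorem lt_pow_mul {q a b x y : ℕ} (ha : a < q ^ x) (hb : b < q ^ y) : a * b < q ^ (x + y) := by
  rw [pow_add]
  exact Nat.mul_lt_mul'' ha hb

theorem sub_one_lt_pow {q : ℕ} (hq : 1 ≤ q) (x : ℕ) : q ^ x - 1 < q ^ x :=
  Nat.sub_lt (pow_pos hq x) one_pos

theorem add_one_lt_pow {q : ℕ} (hq : 2 ≤ q) (x : ℕ) (hx : x ≠ 0) : q ^ x + 1 < q ^ (x + 1) := by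
  have h1 : 2 ≤ q ^ x := by
    calc 2 ≤ q := hq
      _ = q ^ 1 := (pow_one q).symm
      _ ≤ q ^ x := Nat.pow_le_pow_right (by omega) (Nat.one_le_iff_ne_zero.2 hx)
  rw [pow_succ]
  nlinarith

end Cfsg.Agent.Helper39.LieOrd
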