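import Cfsg.Agent.Helper39.LieOrd.Classical

/-!
# Order bounds for the exceptional and twisted families (helper39, for S2363)

Order formulas in the exact shapes of `S1059`, `S1062`-`S1069`, `S1163`, with `q = p^f`.
-/

set_option autoImplicit false

namespace Cfsg.Agent.Helper39.LieOrd

section
variable {p f c : ℕ}

theorem g2_bounds (hp : p.Prime) (hf : f ≠ 0)
    (h : c = (p ^ f) ^ 6 * ((p ^ f) ^ 2 - 1) * ((p ^ f) ^ 6 - 1)) : Good p c := by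
  obtain ⟨hq2, hpq, hq0⟩ := q_facts hp hf
  have hq1 : 1 ≤ p ^ f := by omega
  have h' : 1 * c = (p ^ f) ^ 6 * (((p ^ f) ^ 2 - 1) * ((p ^ f) ^ 6 - 1)) := by rw [h]; ring
  have hM : ¬ p ∣ ((p ^ f) ^ 2 - 1) * ((p ^ f) ^ 6 - 1) :=
    not_dvd_mul hp (not_dvd_sub_one hp hpq hq0 (by norm_num)) (not_dvd_sub_one hp hpq hq0 (by norm_num))
  have hB := lt_pow_mul (sub_one_lt_pow hq1 2) (sub_one_lt_pow hq1 6)
  obtain ⟨_, h2, h3⟩ := core hp (by simpa using hp.one_lt.ne') hM h' hB (by norm_num)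
  exact ⟨h2, h3 (by norm_num)⟩

theorem f4_bounds (hp : p.Prime) (hf : f ≠ 0)
    (h : c = (p ^ f) ^ 24 * ((p ^ f) ^ 2 - 1) * ((p ^ f) ^ 6 - 1) * ((p ^ f) ^ 8 - 1) *
      ((p ^ f) ^ 12 - 1)) : Good p c := by
  obtain ⟨hq2, hpq, hq0⟩ := q_facts hp hf
  have hq1 : 1 ≤ p ^ f := by omega
  have h' : 1 * c = (p ^ f) ^ 24 * (((p ^ f) ^ 2 - 1) * ((p ^ f) ^ 6 - 1) * ((p ^ f) ^ 8 - 1) *
      ((p ^ f) ^ 12 - 1)) := by rw [h]; ring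
  have hM : ¬ p ∣ ((p ^ f) ^ 2 - 1) * ((p ^ f) ^ 6 - 1) * ((p ^ f) ^ 8 - 1) * ((p ^ f) ^ 12 - 1) :=
    not_dvd_mul hp (not_dvd_mul hp (not_dvd_mul hp
      (not_dvd_sub_one hp hpq hq0 (by norm_num)) (not_dvd_sub_one hp hpq hq0 (by norm_num)))
      (not_dvd_sub_one hp hpq hq0 (by norm_num))) (not_dvd_sub_one hp hpq hq0 (by norm_num))
  have hB := lt_pow_mul (lt_pow_mul (lt_pow_mul (sub_one_lt_pow hq1 2) (sub_one_lt_pow hq1 6))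
    (sub_one_lt_pow hq1 8)) (sub_one_lt_pow hq1 12)
  obtain ⟨_, h2, h3⟩ := core hp (by simpa using hp.one_lt.ne') hM h' hB (by norm_num)
  exact ⟨h2, h3 (by norm_num)⟩

theorem e6_bounds (hp : p.Prime) (hf : f ≠ 0)
    (h : Nat.gcd 3 (p ^ f - 1) * c = (p ^ f) ^ 36 * ((p ^ f) ^ 2 - 1) * ((p ^ f) ^ 5 - 1) *
      ((p ^ f) ^ 6 - 1) * ((p ^ f) ^ 8 - 1) * ((p ^ f) ^ 9 - 1) * ((p ^ f) ^ 12 - 1)) : Good p c := by
  obtain ⟨hq2, hpq, hq0⟩ := q_facts hp hf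
  have hq1 : 1 ≤ p ^ f := by omega
  have h' : Nat.gcd 3 (p ^ f - 1) * c = (p ^ f) ^ 36 * (((p ^ f) ^ 2 - 1) * ((p ^ f) ^ 5 - 1) *
      ((p ^ f) ^ 6 - 1) * ((p ^ f) ^ 8 - 1) * ((p ^ f) ^ 9 - 1) * ((p ^ f) ^ 12 - 1)) := by
    rw [h]; ring
  have hM : ¬ p ∣ ((p ^ f) ^ 2 - 1) * ((p ^ f) ^ 5 - 1) *
      ((p ^ f) ^ 6 - 1) * ((p ^ f) ^ 8 - 1) * ((p ^ f) ^ 9 - 1) * ((p ^ f) ^ 12 - 1) :=
    not_dvd_mul hp (not_dvd_mul hp (not_dvd_mul hp (not_dvd_mul hp (not_dvd_mul hp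
      (not_dvd_sub_one hp hpq hq0 (by norm_num)) (not_dvd_sub_one hp hpq hq0 (by norm_num)))
      (not_dvd_sub_one hp hpq hq0 (by norm_num))) (not_dvd_sub_one hp hpq hq0 (by norm_num)))
      (not_dvd_sub_one hp hpq hq0 (by norm_num))) (not_dvd_sub_one hp hpq hq0 (by norm_num))
  have hB := lt_pow_mul (lt_pow_mul (lt_pow_mul (lt_pow_mul (lt_pow_mul
    (sub_one_lt_pow hq1 2) (sub_one_lt_pow hq1 5)) (sub_one_lt_pow hq1 6))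
    (sub_one_lt_pow hq1 8)) (sub_one_lt_pow hq1 9)) (sub_one_lt_pow hq1 12)
  have hd : ¬ p ∣ Nat.gcd 3 (p ^ f - 1) := not_dvd_of_dvd_sub_one hp hpq hq0 (Nat.gcd_dvd_right _ _)
  obtain ⟨_, h2, h3⟩ := core hp hd hM h' hB (by norm_num)
  exact ⟨h2, h3 (by norm_num)⟩

theorem e7_bounds (hp : p.Prime) (hf : f ≠ 0)
    (h : Nat.gcd 2 (p ^ f - 1) * c = (p ^ f) ^ 63 * ((p ^ f) ^ 2 - 1) * ((p ^ f) ^ 6 - 1) *
      ((p ^ f) ^ 8 - 1) * ((p ^ f) ^ 10 - 1) * ((p ^ f) ^ 12 - 1) * ((p ^ f) ^ 14 - 1) *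
      ((p ^ f) ^ 18 - 1)) : Good p c := by
  obtain ⟨hq2, hpq, hq0⟩ := q_facts hp hf
  have hq1 : 1 ≤ p ^ f := by omega
  have h' : Nat.gcd 2 (p ^ f - 1) * c = (p ^ f) ^ 63 * (((p ^ f) ^ 2 - 1) * ((p ^ f) ^ 6 - 1) *
      ((p ^ f) ^ 8 - 1) * ((p ^ f) ^ 10 - 1) * ((p ^ f) ^ 12 - 1) * ((p ^ f) ^ 14 - 1) *
      ((p ^ f) ^ 18 - 1)) := by
    rw [h]; ring
  have hM : ¬ p ∣ ((p ^ f) ^ 2 - 1) * ((p ^ f) ^ 6 - 1) *
      ((p ^ f) ^ 8 - 1) * ((p ^ f) ^ 10 - 1) * ((p ^ f) ^ 12 - 1) * ((p ^ f) ^ 14 - 1) *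
      ((p ^ f) ^ 18 - 1) :=
    not_dvd_mul hp (not_dvd_mul hp (not_dvd_mul hp (not_dvd_mul hp (not_dvd_mul hp (not_dvd_mul hp
      (not_dvd_sub_one hp hpq hq0 (by norm_num)) (not_dvd_sub_one hp hpq hq0 (by norm_num)))
      (not_dvd_sub_one hp hpq hq0 (by norm_num))) (not_dvd_sub_one hp hpq hq0 (by norm_num)))
      (not_dvd_sub_one hp hpq hq0 (by norm_num))) (not_dvd_sub_one hp hpq hq0 (by norm_num)))
      (not_dvd_sub_one hp hpq hq0 (by norm_num))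
  have hB := lt_pow_mul (lt_pow_mul (lt_pow_mul (lt_pow_mul (lt_pow_mul (lt_pow_mul
    (sub_one_lt_pow hq1 2) (sub_one_lt_pow hq1 6)) (sub_one_lt_pow hq1 8))
    (sub_one_lt_pow hq1 10)) (sub_one_lt_pow hq1 12)) (sub_one_lt_pow hq1 14))
    (sub_one_lt_pow hq1 18)
  have hd : ¬ p ∣ Nat.gcd 2 (p ^ f - 1) := not_dvd_of_dvd_sub_one hp hpq hq0 (Nat.gcd_dvd_right _ _)
  obtain ⟨_, h2, h3⟩ := core hp hd hM h' hB (by norm_num)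
  exact ⟨h2, h3 (by norm_num)⟩

theorem e8_bounds (hp : p.Prime) (hf : f ≠ 0)
    (h : c = (p ^ f) ^ 120 * ((p ^ f) ^ 2 - 1) * ((p ^ f) ^ 8 - 1) * ((p ^ f) ^ 12 - 1) *
      ((p ^ f) ^ 14 - 1) * ((p ^ f) ^ 18 - 1) * ((p ^ f) ^ 20 - 1) * ((p ^ f) ^ 24 - 1) *
      ((p ^ f) ^ 30 - 1)) : Good p c := by
  obtain ⟨hq2, hpq, hq0⟩ := q_facts hp hf
  have hq1 : 1 ≤ p ^ f := by omega
  have h' : 1 * c = (p ^ f) ^ 120 * (((p ^ f) ^ 2 - 1) * ((p ^ f) ^ 8 - 1) * ((p ^ f) ^ 12 - 1) *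
      ((p ^ f) ^ 14 - 1) * ((p ^ f) ^ 18 - 1) * ((p ^ f) ^ 20 - 1) * ((p ^ f) ^ 24 - 1) *
      ((p ^ f) ^ 30 - 1)) := by
    rw [h]; ring
  have hM : ¬ p ∣ ((p ^ f) ^ 2 - 1) * ((p ^ f) ^ 8 - 1) * ((p ^ f) ^ 12 - 1) *
      ((p ^ f) ^ 14 - 1) * ((p ^ f) ^ 18 - 1) * ((p ^ f) ^ 20 - 1) * ((p ^ f) ^ 24 - 1) *
      ((p ^ f) ^ 30 - 1) :=
    not_dvd_mul hp (not_dvd_mul hp (not_dvd_mul hp (not_dvd_mul hp (not_dvd_mul hp (not_dvd_mul hp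
      (not_dvd_mul hp
      (not_dvd_sub_one hp hpq hq0 (by norm_num)) (not_dvd_sub_one hp hpq hq0 (by norm_num)))
      (not_dvd_sub_one hp hpq hq0 (by norm_num))) (not_dvd_sub_one hp hpq hq0 (by norm_num)))
      (not_dvd_sub_one hp hpq hq0 (by norm_num))) (not_dvd_sub_one hp hpq hq0 (by norm_num)))
      (not_dvd_sub_one hp hpq hq0 (by norm_num))) (not_dvd_sub_one hp hpq hq0 (by norm_num))
  have hB := lt_pow_mul (lt_pow_mul (lt_pow_mul (lt_pow_mul (lt_pow_mul (lt_pow_mul (lt_pow_mul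
    (sub_one_lt_pow hq1 2) (sub_one_lt_pow hq1 8)) (sub_one_lt_pow hq1 12))
    (sub_one_lt_pow hq1 14)) (sub_one_lt_pow hq1 18)) (sub_one_lt_pow hq1 20))
    (sub_one_lt_pow hq1 24)) (sub_one_lt_pow hq1 30)
  obtain ⟨_, h2, h3⟩ := core hp (by simpa using hp.one_lt.ne') hM h' hB (by norm_num)
  exact ⟨h2, h3 (by norm_num)⟩

theorem twE6_bounds (hp : p.Prime) (hf : f ≠ 0)
    (h : Nat.gcd 3 (p ^ f + 1) * c = (p ^ f) ^ 36 * ((p ^ f) ^ 2 - 1) * ((p ^ f) ^ 5 + 1) *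
      ((p ^ f) ^ 6 - 1) * ((p ^ f) ^ 8 - 1) * ((p ^ f) ^ 9 + 1) * ((p ^ f) ^ 12 - 1)) : Good p c := by
  obtain ⟨hq2, hpq, hq0⟩ := q_facts hp hf
  have hq1 : 1 ≤ p ^ f := by omega
  have h' : Nat.gcd 3 (p ^ f + 1) * c = (p ^ f) ^ 36 * (((p ^ f) ^ 2 - 1) * ((p ^ f) ^ 5 + 1) *
      ((p ^ f) ^ 6 - 1) * ((p ^ f) ^ 8 - 1) * ((p ^ f) ^ 9 + 1) * ((p ^ f) ^ 12 - 1)) := by
    rw [h]; ring
  have hM : ¬ p ∣ ((p ^ f) ^ 2 - 1) * ((p ^ f) ^ 5 + 1) *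
      ((p ^ f) ^ 6 - 1) * ((p ^ f) ^ 8 - 1) * ((p ^ f) ^ 9 + 1) * ((p ^ f) ^ 12 - 1) :=
    not_dvd_mul hp (not_dvd_mul hp (not_dvd_mul hp (not_dvd_mul hp (not_dvd_mul hp
      (not_dvd_sub_one hp hpq hq0 (by norm_num)) (not_dvd_add_one hp hpq (by norm_num)))
      (not_dvd_sub_one hp hpq hq0 (by norm_num))) (not_dvd_sub_one hp hpq hq0 (by norm_num)))
      (not_dvd_add_one hp hpq (by norm_num))) (not_dvd_sub_one hp hpq hq0 (by norm_num))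
  have hB := lt_pow_mul (lt_pow_mul (lt_pow_mul (lt_pow_mul (lt_pow_mul
    (sub_one_lt_pow hq1 2) (add_one_lt_pow hq2 5 (by norm_num))) (sub_one_lt_pow hq1 6))
    (sub_one_lt_pow hq1 8)) (add_one_lt_pow hq2 9 (by norm_num))) (sub_one_lt_pow hq1 12)
  have hd : ¬ p ∣ Nat.gcd 3 (p ^ f + 1) := not_dvd_of_dvd_add_one hp hpq (Nat.gcd_dvd_right _ _)
  obtain ⟨_, h2, h3⟩ := core hp hd hM h' hB (by norm_num)
  exact ⟨h2, h3 (by norm_num)⟩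

theorem twD4_bounds (hp : p.Prime) (hf : f ≠ 0)
    (h : c = (p ^ f) ^ 12 * ((p ^ f) ^ 2 - 1) * ((p ^ f) ^ 6 - 1) *
      ((p ^ f) ^ 8 + (p ^ f) ^ 4 + 1)) : Good p c := by
  obtain ⟨hq2, hpq, hq0⟩ := q_facts hp hf
  have hq1 : 1 ≤ p ^ f := by omega
  have h' : 1 * c = (p ^ f) ^ 12 * (((p ^ f) ^ 2 - 1) * ((p ^ f) ^ 6 - 1) *
      ((p ^ f) ^ 8 + (p ^ f) ^ 4 + 1)) := by rw [h]; ring
  have h841 : ¬ p ∣ (p ^ f) ^ 8 + (p ^ f) ^ 4 + 1 := by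
    intro hd
    have h1 : p ∣ (p ^ f) ^ 8 + (p ^ f) ^ 4 :=
      dvd_add (dvd_pow hpq (by norm_num)) (dvd_pow hpq (by norm_num))
    exact hp.one_lt.ne' (Nat.dvd_one.1 ((Nat.dvd_add_right h1).1 hd))
  have hM : ¬ p ∣ ((p ^ f) ^ 2 - 1) * ((p ^ f) ^ 6 - 1) * ((p ^ f) ^ 8 + (p ^ f) ^ 4 + 1) :=
    not_dvd_mul hp (not_dvd_mul hp
      (not_dvd_sub_one hp hpq hq0 (by norm_num)) (not_dvd_sub_one hp hpq hq0 (by norm_num))) h841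
  have h9 : (p ^ f) ^ 8 + (p ^ f) ^ 4 + 1 < (p ^ f) ^ 9 := by
    have h4 : 2 ≤ (p ^ f) ^ 4 := by
      calc 2 ≤ p ^ f := hq2
        _ = (p ^ f) ^ 1 := (pow_one _).symm
        _ ≤ (p ^ f) ^ 4 := Nat.pow_le_pow_right hq1 (by norm_num)
    have e8 : (p ^ f) ^ 8 = (p ^ f) ^ 4 * (p ^ f) ^ 4 := by rw [← pow_add]
    have e9 : (p ^ f) ^ 9 = (p ^ f) ^ 8 * (p ^ f) := by rw [pow_succ]
    rw [e9]
    nlinarith
  have hB := lt_pow_mul (lt_pow_mul (sub_one_lt_pow hq1 2) (sub_one_lt_pow hq1 6)) h9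
  obtain ⟨_, h2, h3⟩ := core hp (by simpa using hp.one_lt.ne') hM h' hB (by norm_num)
  exact ⟨h2, h3 (by norm_num)⟩

/-- Suzuki shape: `q² (q - 1) (q² + 1)` -/
theorem sz_bounds (hp : p.Prime) (hf : f ≠ 0)
    (h : c = (p ^ f) ^ 2 * (p ^ f - 1) * ((p ^ f) ^ 2 + 1)) : Good p c := by
  obtain ⟨hq2, hpq, hq0⟩ := q_facts hp hf
  have hq1 : 1 ≤ p ^ f := by omega
  have h' : 1 * c = (p ^ f) ^ 2 * ((p ^ f - 1) * ((p ^ f) ^ 2 + 1)) := by rw [h]; ring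
  have hM : ¬ p ∣ (p ^ f - 1) * ((p ^ f) ^ 2 + 1) := by
    refine not_dvd_mul hp ?_ (not_dvd_add_one hp hpq (by norm_num))
    have := not_dvd_sub_one hp hpq hq0 one_ne_zero
    rwa [pow_one] at this
  have hB : (p ^ f - 1) * ((p ^ f) ^ 2 + 1) < (p ^ f) ^ 3 := by
    obtain ⟨t, ht⟩ : ∃ t, p ^ f = t + 1 := ⟨p ^ f - 1, by omega⟩
    rw [ht, Nat.add_sub_cancel]
    nlinarith
  obtain ⟨_, h2, h3⟩ := core hp (by simpa using hp.one_lt.ne') hM h' hB (by norm_num)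
  exact ⟨h2, h3 (by norm_num)⟩

/-- large Ree shape: `q¹² (q - 1)(q³ + 1)(q⁴ - 1)(q⁶ + 1)` -/
theorem twF4_bounds (hp : p.Prime) (hf : f ≠ 0)
    (h : c = (p ^ f) ^ 12 * (p ^ f - 1) * ((p ^ f) ^ 3 + 1) * ((p ^ f) ^ 4 - 1) *
      ((p ^ f) ^ 6 + 1)) : Good p c := by
  obtain ⟨hq2, hpq, hq0⟩ := q_facts hp hf
  have hq1 : 1 ≤ p ^ f := by omega
  have h' : 1 * c = (p ^ f) ^ 12 * ((p ^ f - 1) * ((p ^ f) ^ 3 + 1) * ((p ^ f) ^ 4 - 1) *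
      ((p ^ f) ^ 6 + 1)) := by rw [h]; ring
  have hm1 : ¬ p ∣ p ^ f - 1 := by
    have := not_dvd_sub_one hp hpq hq0 one_ne_zero
    rwa [pow_one] at this
  have hM : ¬ p ∣ (p ^ f - 1) * ((p ^ f) ^ 3 + 1) * ((p ^ f) ^ 4 - 1) * ((p ^ f) ^ 6 + 1) :=
    not_dvd_mul hp (not_dvd_mul hp (not_dvd_mul hp hm1 (not_dvd_add_one hp hpq (by norm_num)))
      (not_dvd_sub_one hp hpq hq0 (by norm_num))) (not_dvd_add_one hp hpq (by norm_num))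
  have hl1 : p ^ f - 1 < (p ^ f) ^ 1 := by rw [pow_one]; omega
  have hB := lt_pow_mul (lt_pow_mul (lt_pow_mul hl1 (add_one_lt_pow hq2 3 (by norm_num)))
    (sub_one_lt_pow hq1 4)) (add_one_lt_pow hq2 6 (by norm_num))
  obtain ⟨_, h2, h3⟩ := core hp (by simpa using hp.one_lt.ne') hM h' hB (by norm_num)
  exact ⟨h2, h3 (by norm_num)⟩

/-- small Ree shape: `q³ (q - 1)(q³ + 1)` -/
theorem twG2_bounds (hp : p.Prime) (hf : f ≠ 0)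
    (h : c = (p ^ f) ^ 3 * (p ^ f - 1) * ((p ^ f) ^ 3 + 1)) : Good p c := by
  obtain ⟨hq2, hpq, hq0⟩ := q_facts hp hf
  have hq1 : 1 ≤ p ^ f := by omega
  have h' : 1 * c = (p ^ f) ^ 3 * ((p ^ f - 1) * ((p ^ f) ^ 3 + 1)) := by rw [h]; ring
  have hm1 : ¬ p ∣ p ^ f - 1 := by
    have := not_dvd_sub_one hp hpq hq0 one_ne_zero
    rwa [pow_one] at this
  have hM : ¬ p ∣ (p ^ f - 1) * ((p ^ f) ^ 3 + 1) :=
    not_dvd_mul hp hm1 (not_dvd_add_one hp hpq (by norm_num))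
  have hl1 : p ^ f - 1 < (p ^ f) ^ 1 := by rw [pow_one]; omega
  have hB := lt_pow_mul hl1 (add_one_lt_pow hq2 3 (by norm_num))
  obtain ⟨_, h2, h3⟩ := core hp (by simpa using hp.one_lt.ne') hM h' hB (by norm_num)
  exact ⟨h2, h3 (by norm_num)⟩

end

end Cfsg.Agent.Helper39.LieOrd
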