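import Cfsg.Prelude.Def_LieTypeChar
import Cfsg.Agent.Helper39.LieOrd.Exceptional

/-!
# S2363 from the order formulas (helper39)

`Cards` bundles the landed order formulas (at universe 0, which is all `IsLieTypeChar` needs);
`main` derives the statement of S2363 from them.  The statement file only has to supply the
seventeen `result`s.
-/

set_option autoImplicit false

namespace Cfsg.Agent.Helper39.LieOrd

open Cfsg

/-- the order formulas used (shapes of S0243, S0245, S0246, S0280, S0292, S0293, S0294, S1163,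
S1059, S1062-S1069) -/
structure Cards : Prop where
  psl : ∀ (F : Type) [Field F] [Fintype F] (q : ℕ) (_ : Fintype.card F = q) (n : ℕ) (_ : 2 ≤ n),
    Nat.gcd n (q - 1) * ((q - 1) * Nat.card (Matrix.ProjectiveSpecialLinearGroup (Fin n) F)) =
      ∏ i : Fin n, (q ^ n - q ^ (i : ℕ))
  sp : ∀ (F : Type) [Field F] [Fintype F] (q : ℕ) (_ : Fintype.card F = q) (m : ℕ),
    Nat.card (Matrix.symplecticGroup (Fin m) F) =
      q ^ (m ^ 2) * ∏ i ∈ Finset.range m, (q ^ (2 * (i + 1)) - 1)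
  spZ : ∀ (F : Type) [Field F] [Fintype F] (q : ℕ) (_ : Fintype.card F = q) (m : ℕ) (_ : 1 ≤ m),
    Nat.card (Subgroup.center (Matrix.symplecticGroup (Fin m) F)) = Nat.gcd 2 (q - 1)
  psu : ∀ (F : Type) [Field F] [Fintype F] (q : ℕ) (_ : Fintype.card F = q ^ 2) (n : ℕ) (_ : 2 ≤ n),
    Nat.gcd n (q + 1) * ((q + 1) * Nat.card (Cfsg.PSU n F q)) =
      q ^ (n * (n - 1) / 2) * ∏ i ∈ Finset.range n,
        (if Even i then q ^ (i + 1) + 1 else q ^ (i + 1) - 1)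
  oOdd : ∀ (F : Type) [Field F] [Fintype F] (q : ℕ) (_ : Fintype.card F = q) (_ : Odd q) (m : ℕ)
    (_ : 3 ≤ m), 2 * Nat.card (Cfsg.POmega F (Cfsg.quadFormOdd m F)) =
      q ^ (m ^ 2) * ∏ i ∈ Finset.range m, (q ^ (2 * (i + 1)) - 1)
  oPlus : ∀ (F : Type) [Field F] [Fintype F] (q : ℕ) (_ : Fintype.card F = q) (m : ℕ) (_ : 4 ≤ m),
    Nat.gcd 4 (q ^ m - 1) * Nat.card (Cfsg.POmega F (Cfsg.quadFormPlus m F)) =
      q ^ (m * (m - 1)) * (q ^ m - 1) * ∏ i ∈ Finset.range (m - 1), (q ^ (2 * (i + 1)) - 1)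
  oMinus : ∀ (F : Type) [Field F] [Fintype F] (q : ℕ) (_ : Fintype.card F = q) (m : ℕ) (_ : 4 ≤ m)
    (a b : F) (_ : ∀ z₁ z₂ : F, z₁ ^ 2 + a * z₁ * z₂ + b * z₂ ^ 2 = 0 → z₁ = 0 ∧ z₂ = 0),
    Nat.gcd 4 (q ^ m + 1) * Nat.card (Cfsg.POmega F (Cfsg.quadFormMinus (m - 1) F a b)) =
      q ^ (m * (m - 1)) * (q ^ m + 1) * ∏ i ∈ Finset.range (m - 1), (q ^ (2 * (i + 1)) - 1)
  sz : ∀ (F : Type) [Field F] [Fintype F] (m : ℕ) (_ : 1 ≤ m) (_ : Fintype.card F = 2 ^ (2 * m + 1)),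
    Nat.card ↥(Cfsg.Lie.Sz F (2 ^ (m + 1))) =
      (2 ^ (2 * m + 1)) ^ 2 * (2 ^ (2 * m + 1) - 1) * ((2 ^ (2 * m + 1)) ^ 2 + 1)
  g2 : ∀ (F : Type) [Field F] [Fintype F] (q : ℕ) (_ : Fintype.card F = q),
    Nat.card ↥(Cfsg.Lie.chevG2.group F) = q ^ 6 * (q ^ 2 - 1) * (q ^ 6 - 1)
  f4 : ∀ (F : Type) [Field F] [Fintype F] (q : ℕ) (_ : Fintype.card F = q),
    Nat.card ↥(Cfsg.Lie.chevF4.group F) =
      q ^ 24 * (q ^ 2 - 1) * (q ^ 6 - 1) * (q ^ 8 - 1) * (q ^ 12 - 1)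
  e6 : ∀ (F : Type) [Field F] [Fintype F] (q : ℕ) (_ : Fintype.card F = q),
    Nat.gcd 3 (q - 1) * Nat.card ↥(Cfsg.Lie.chevE6.group F) =
      q ^ 36 * (q ^ 2 - 1) * (q ^ 5 - 1) * (q ^ 6 - 1) * (q ^ 8 - 1) * (q ^ 9 - 1) * (q ^ 12 - 1)
  e7 : ∀ (F : Type) [Field F] [Fintype F] (q : ℕ) (_ : Fintype.card F = q),
    Nat.gcd 2 (q - 1) * Nat.card ↥(Cfsg.Lie.chevE7.group F) =
      q ^ 63 * (q ^ 2 - 1) * (q ^ 6 - 1) * (q ^ 8 - 1) * (q ^ 10 - 1) * (q ^ 12 - 1) *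
        (q ^ 14 - 1) * (q ^ 18 - 1)
  e8 : ∀ (F : Type) [Field F] [Fintype F] (q : ℕ) (_ : Fintype.card F = q),
    Nat.card ↥(Cfsg.Lie.chevE8.group F) =
      q ^ 120 * (q ^ 2 - 1) * (q ^ 8 - 1) * (q ^ 12 - 1) * (q ^ 14 - 1) * (q ^ 18 - 1) *
        (q ^ 20 - 1) * (q ^ 24 - 1) * (q ^ 30 - 1)
  twE6 : ∀ (K : Type) [Field K] [Fintype K] (q : ℕ) (_ : IsPrimePow q) (_ : Fintype.card K = q ^ 2),
    Nat.gcd 3 (q + 1) * Nat.card ↥(Cfsg.Lie.twistedE6 K q) =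
      q ^ 36 * (q ^ 2 - 1) * (q ^ 5 + 1) * (q ^ 6 - 1) * (q ^ 8 - 1) * (q ^ 9 + 1) * (q ^ 12 - 1)
  twD4 : ∀ (K : Type) [Field K] [Fintype K] (q : ℕ) (_ : IsPrimePow q) (_ : Fintype.card K = q ^ 3),
    Nat.card ↥(Cfsg.Lie.twistedD4 K q) = q ^ 12 * (q ^ 2 - 1) * (q ^ 6 - 1) * (q ^ 8 + q ^ 4 + 1)
  twF4 : ∀ (K : Type) [Field K] [Fintype K] (m : ℕ) (_ : Fintype.card K = 2 ^ (2 * m + 1)),
    Nat.card ↥(Cfsg.Lie.twistedF4 K (2 ^ m)) =
      (2 ^ (2 * m + 1)) ^ 12 * (2 ^ (2 * m + 1) - 1) * ((2 ^ (2 * m + 1)) ^ 3 + 1) *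
        ((2 ^ (2 * m + 1)) ^ 4 - 1) * ((2 ^ (2 * m + 1)) ^ 6 + 1)
  twG2 : ∀ (K : Type) [Field K] [Fintype K] (m : ℕ) (_ : Fintype.card K = 3 ^ (2 * m + 1)),
    Nat.card ↥(Cfsg.Lie.twistedG2 K (3 ^ m)) =
      (3 ^ (2 * m + 1)) ^ 3 * (3 ^ (2 * m + 1) - 1) * ((3 ^ (2 * m + 1)) ^ 3 + 1)

/-- a finite field of characteristic `p` has `p^f` elements with `f ≠ 0` -/
theorem card_field (F : Type) [Field F] [Fintype F] (p : ℕ) [CharP F p] :
    ∃ f : ℕ, f ≠ 0 ∧ Fintype.card F = p ^ f := by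
  obtain ⟨n, _, hn⟩ := FiniteField.card F p
  exact ⟨n, n.pos.ne', hn⟩

/-- if `Q^k = p^e` (`k ≠ 0`) and `Q ≠ 1` then `Q = p^j` with `j ≠ 0` -/
theorem root_of_pow {p Q k e : ℕ} (hp : p.Prime) (hk : k ≠ 0) (hQ1 : Q ≠ 1) (h : Q ^ k = p ^ e) :
    ∃ j : ℕ, j ≠ 0 ∧ Q = p ^ j := by
  have hd : Q ∣ p ^ e := h ▸ dvd_pow_self Q hk
  obtain ⟨j, _, rfl⟩ := (Nat.dvd_prime_pow hp).1 hd
  refine ⟨j, ?_, rfl⟩
  rintro rfl
  exact hQ1 (pow_zero p)

theorem good_of_equiv {G H : Type*} [Group G] [Group H] (e : G ≃* H) {p : ℕ}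
    (h : Good p (Nat.card H)) : Good p (Nat.card G) := by
  rw [Nat.card_congr e.toEquiv]
  exact h

theorem main (C : Cards) {G : Type*} [Group G] [Finite G] (p : ℕ) (hp : p.Prime)
    (hG : Cfsg.IsLieTypeChar p G) :
    Nat.card G < p ^ (3 * (Nat.card G).factorization p) ∧
      ((¬ ∃ (F : Type) (_ : Field F) (_ : Fintype F),
          Fintype.card F = p ^ (Nat.card G).factorization p ∧
          Nonempty (G ≃* Matrix.ProjectiveSpecialLinearGroup (Fin 2) F)) →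
        Nat.card G ^ 3 < p ^ (8 * (Nat.card G).factorization p)) := by
  have fin : ∀ {c : ℕ}, Good p c → c = Nat.card G →
      Nat.card G < p ^ (3 * (Nat.card G).factorization p) ∧
      ((¬ ∃ (F : Type) (_ : Field F) (_ : Fintype F),
          Fintype.card F = p ^ (Nat.card G).factorization p ∧
          Nonempty (G ≃* Matrix.ProjectiveSpecialLinearGroup (Fin 2) F)) →
        Nat.card G ^ 3 < p ^ (8 * (Nat.card G).factorization p)) := by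
    intro c hc hcG
    subst hcG
    exact ⟨hc.1, fun _ => hc.2⟩
  rcases hG with h | h | h | h | h | h | h | h | h | h | h
  · -- PSL
    obtain ⟨F, _, _, _, n, hn, hn2, ⟨e⟩⟩ := h
    obtain ⟨f, hf, hcard⟩ := card_field F p
    have hc := C.psl F (p ^ f) hcard n hn
    rw [← Nat.card_congr e.toEquiv] at hc
    obtain ⟨h1, h2, h3⟩ := psl_bounds hp hf hn hc
    refine ⟨h1, fun hne => ?_⟩
    rcases Nat.lt_or_ge n 3 with hlt | hge
    · have hn' : n = 2 := by omega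
      subst hn'
      exact absurd ⟨F, inferInstance, inferInstance, by rw [h2 rfl, hcard], ⟨e⟩⟩ hne
    · exact h3 hge
  · -- PSp
    obtain ⟨F, _, _, _, m, hm, _, ⟨e⟩⟩ := h
    obtain ⟨f, hf, hcard⟩ := card_field F p
    obtain ⟨hq2, hpq, hq0⟩ := q_facts hp hf
    have h1 := C.sp F (p ^ f) hcard m
    have h2 := C.spZ F (p ^ f) hcard m (by omega)
    have h3 := Subgroup.card_eq_card_quotient_mul_card_subgroup
      (Subgroup.center (Matrix.symplecticGroup (Fin m) F))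
    rw [h1, h2] at h3
    have h4 : Nat.gcd 2 (p ^ f - 1) * Nat.card (Cfsg.PSp m F) =
        (p ^ f) ^ (m ^ 2) * ∏ i ∈ Finset.range m, ((p ^ f) ^ (2 * (i + 1)) - 1) := by
      rw [h3]; exact mul_comm _ _
    exact fin (bc_bounds hp hf hm
      (not_dvd_of_dvd_sub_one hp hpq hq0 (Nat.gcd_dvd_right _ _)) h4)
      (Nat.card_congr e.toEquiv).symm
  · -- PSU
    obtain ⟨F, _, _, _, n, q, hq, hn, _, ⟨e⟩⟩ := h
    obtain ⟨f, hf, hcard⟩ := card_field F p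
    have hq1 : q ≠ 1 := by
      rintro rfl
      have := Fintype.one_lt_card (α := F)
      rw [hq] at this
      simp at this
    obtain ⟨j, hj, rfl⟩ := root_of_pow hp two_ne_zero hq1 (hq.symm.trans hcard)
    exact fin (psu_bounds hp hj hn (C.psu F (p ^ j) hq n (by omega)))
      (Nat.card_congr e.toEquiv).symm
  · -- odd orthogonal
    obtain ⟨F, _, _, _, m, hm, hodd, ⟨e⟩⟩ := h
    obtain ⟨f, hf, hcard⟩ := card_field F p
    rw [hcard] at hodd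
    have hp2 : ¬ p ∣ 2 := by
      intro hd
      have : p = 2 := (Nat.prime_dvd_prime_iff_eq hp Nat.prime_two).1 hd
      subst this
      exact (Nat.not_even_iff_odd.2 hodd) ((Nat.even_pow' hf).2 even_two)
    exact fin (bc_bounds hp hf (by omega) hp2 (C.oOdd F (p ^ f) hcard hodd m hm))
      (Nat.card_congr e.toEquiv).symm
  · -- plus
    obtain ⟨F, _, _, _, m, hm, ⟨e⟩⟩ := h
    obtain ⟨f, hf, hcard⟩ := card_field F p
    obtain ⟨hq2, hpq, hq0⟩ := q_facts hp hf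
    have hd : ¬ p ∣ Nat.gcd 4 ((p ^ f) ^ m - 1) := fun hd =>
      not_dvd_sub_one hp hpq hq0 (by omega) (hd.trans (Nat.gcd_dvd_right _ _))
    exact fin (dplus_bounds hp hf hm hd (C.oPlus F (p ^ f) hcard m hm))
      (Nat.card_congr e.toEquiv).symm
  · -- minus
    obtain ⟨F, _, _, _, m, a, b, hm, hab, ⟨e⟩⟩ := h
    obtain ⟨f, hf, hcard⟩ := card_field F p
    obtain ⟨hq2, hpq, hq0⟩ := q_facts hp hf
    have hd : ¬ p ∣ Nat.gcd 4 ((p ^ f) ^ m + 1) := fun hd =>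
      not_dvd_add_one hp hpq (by omega) (hd.trans (Nat.gcd_dvd_right _ _))
    exact fin (dminus_bounds hp hf hm hd (C.oMinus F (p ^ f) hcard m hm a b hab))
      (Nat.card_congr e.toEquiv).symm
  · -- exceptional Chevalley
    obtain ⟨F, _, _, _, h⟩ := h
    obtain ⟨f, hf, hcard⟩ := card_field F p
    rcases h with ⟨_, ⟨e⟩⟩ | ⟨⟨e⟩⟩ | ⟨⟨e⟩⟩ | ⟨⟨e⟩⟩ | ⟨⟨e⟩⟩
    · exact fin (g2_bounds hp hf (C.g2 F (p ^ f) hcard)) (Nat.card_congr e.toEquiv).symm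
    · exact fin (f4_bounds hp hf (C.f4 F (p ^ f) hcard)) (Nat.card_congr e.toEquiv).symm
    · exact fin (e6_bounds hp hf (C.e6 F (p ^ f) hcard)) (Nat.card_congr e.toEquiv).symm
    · exact fin (e7_bounds hp hf (C.e7 F (p ^ f) hcard)) (Nat.card_congr e.toEquiv).symm
    · exact fin (e8_bounds hp hf (C.e8 F (p ^ f) hcard)) (Nat.card_congr e.toEquiv).symm
  · -- twisted E6, D4
    obtain ⟨K, _, _, _, q, hqpp, h⟩ := h
    obtain ⟨f, hf, hcard⟩ := card_field K p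
    have hq1 : q ≠ 1 := fun h1 => by
      rw [h1] at hqpp; exact not_isPrimePow_one hqpp
    rcases h with ⟨hq, ⟨e⟩⟩ | ⟨hq, ⟨e⟩⟩
    · obtain ⟨j, hj, rfl⟩ := root_of_pow hp two_ne_zero hq1 (hq.symm.trans hcard)
      exact fin (twE6_bounds hp hj (C.twE6 K (p ^ j) hqpp hq)) (Nat.card_congr e.toEquiv).symm
    · obtain ⟨j, hj, rfl⟩ := root_of_pow hp three_ne_zero hq1 (hq.symm.trans hcard)
      exact fin (twD4_bounds hp hj (C.twD4 K (p ^ j) hqpp hq)) (Nat.card_congr e.toEquiv).symm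
  · -- Suzuki
    obtain ⟨rfl, F, _, _, m, hm, hF, ⟨e⟩⟩ := h
    exact fin (sz_bounds hp (by omega) (C.sz F m hm hF)) (Nat.card_congr e.toEquiv).symm
  · -- large Ree
    obtain ⟨rfl, K, _, _, m, _, hK, ⟨e⟩⟩ := h
    exact fin (twF4_bounds hp (by omega) (C.twF4 K m hK)) (Nat.card_congr e.toEquiv).symm
  · -- small Ree
    obtain ⟨rfl, K, _, _, m, _, hK, ⟨e⟩⟩ := h
    exact fin (twG2_bounds hp (by omega) (C.twG2 K m hK)) (Nat.card_congr e.toEquiv).symm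

end Cfsg.Agent.Helper39.LieOrd
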