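import Cfsg.Agent.Helper39.LieOrd.Core

/-!
# Exponent sums and the alternating (unitary) product bound (helper39, for S2363)
-/

set_option autoImplicit false

namespace Cfsg.Agent.Helper39.LieOrd

theorem sum_cmp1 (m : ℕ) (hm : 1 ≤ m) :
    ∑ j ∈ Finset.range m, (j + 2) ≤ 2 * ∑ i ∈ Finset.range (m + 1), i := by
  induction m, hm using Nat.le_induction with
  | base => decide
  | succ m hm ih =>
    rw [Finset.sum_range_succ, Finset.sum_range_succ (fun i => i) (m + 1)]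
    omega

theorem sum_cmp2 (m : ℕ) (hm : 2 ≤ m) :
    3 * ∑ j ∈ Finset.range m, (j + 2) ≤ 5 * ∑ i ∈ Finset.range (m + 1), i := by
  induction m, hm using Nat.le_induction with
  | base => decide
  | succ m hm ih =>
    rw [Finset.sum_range_succ, Finset.sum_range_succ (fun i => i) (m + 1)]
    omega

theorem sum_two (m : ℕ) : ∑ i ∈ Finset.range m, 2 * (i + 1) = m * (m + 1) := by
  induction m with
  | zero => simp
  | succ m ih => rw [Finset.sum_range_succ, ih]; ring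

/-- `(q^a - 1)(q^(a+1) + 1) < q^(2a+1)` -/
theorem pair_lt {q a b : ℕ} (hq : 2 ≤ q) (hb : b = a + 1) :
    (q ^ a - 1) * (q ^ b + 1) < q ^ (a + b) := by
  subst hb
  have h1 : 1 ≤ q ^ a := Nat.one_le_pow _ _ (by omega)
  obtain ⟨t, ht⟩ : ∃ t, q ^ a = t + 1 := ⟨q ^ a - 1, by omega⟩
  have e1 : q ^ (a + 1) = (t + 1) * q := by rw [pow_succ, ht]
  have e2 : q ^ (a + (a + 1)) = (t + 1) * ((t + 1) * q) := by rw [pow_add, e1, ht]
  rw [e2, e1, ht, Nat.add_sub_cancel]
  have h3 : t < (t + 1) * q := by nlinarith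
  calc t * ((t + 1) * q + 1) = t * (t + 1) * q + t := by ring
    _ < t * (t + 1) * q + (t + 1) * q := by omega
    _ = (t + 1) * ((t + 1) * q) := by ring

/-- the alternating factor: `q^(i+2) - 1` for even `i`, `q^(i+2) + 1` for odd `i` -/
def altF (q i : ℕ) : ℕ := if Even (i + 1) then q ^ (i + 2) + 1 else q ^ (i + 2) - 1

theorem altF_even (q k : ℕ) : altF q (2 * k) = q ^ (2 * k + 2) - 1 := by
  unfold altF
  rw [if_neg]
  rw [Nat.not_even_iff_odd]
  exact ⟨k, rfl⟩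

theorem altF_odd (q k : ℕ) : altF q (2 * k + 1) = q ^ (2 * k + 3) + 1 := by
  unfold altF
  rw [if_pos]
  exact ⟨k + 1, by ring⟩

theorem altProd_step (q k : ℕ) :
    ∏ i ∈ Finset.range (2 * (k + 1)), altF q i =
      (∏ i ∈ Finset.range (2 * k), altF q i) * ((q ^ (2 * k + 2) - 1) * (q ^ (2 * k + 3) + 1)) := by
  have e : 2 * (k + 1) = 2 * k + 1 + 1 := by ring
  rw [e, Finset.prod_range_succ, Finset.prod_range_succ, altF_even, altF_odd, mul_assoc]

theorem altSum_step (k : ℕ) :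
    ∑ i ∈ Finset.range (2 * (k + 1)), (i + 2) =
      (∑ i ∈ Finset.range (2 * k), (i + 2)) + ((2 * k + 2) + (2 * k + 3)) := by
  have e : 2 * (k + 1) = 2 * k + 1 + 1 := by ring
  rw [e, Finset.sum_range_succ, Finset.sum_range_succ]
  ring

theorem altProd_even_le {q : ℕ} (hq : 2 ≤ q) (k : ℕ) :
    ∏ i ∈ Finset.range (2 * k), altF q i ≤ q ^ ∑ i ∈ Finset.range (2 * k), (i + 2) := by
  induction k with
  | zero => simp
  | succ k ih =>
    rw [altProd_step, altSum_step]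
    calc _ ≤ q ^ (∑ i ∈ Finset.range (2 * k), (i + 2)) * q ^ ((2 * k + 2) + (2 * k + 3)) :=
          Nat.mul_le_mul ih (pair_lt (a := 2 * k + 2) (b := 2 * k + 3) hq (by ring)).le
      _ = _ := (pow_add _ _ _).symm

theorem altProd_lt {q : ℕ} (hq : 2 ≤ q) (m : ℕ) (hm : 1 ≤ m) :
    ∏ i ∈ Finset.range m, altF q i < q ^ ∑ i ∈ Finset.range m, (i + 2) := by
  have hq1 : 1 ≤ q := by omega
  rcases Nat.even_or_odd' m with ⟨k, rfl | rfl⟩
  · -- m = 2k, k ≥ 1
    obtain ⟨j, rfl⟩ : ∃ j, k = j + 1 := ⟨k - 1, by omega⟩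
    rw [altProd_step, altSum_step]
    calc _ < q ^ (∑ i ∈ Finset.range (2 * j), (i + 2)) * q ^ ((2 * j + 2) + (2 * j + 3)) :=
          Nat.mul_lt_mul_of_le_of_lt (altProd_even_le hq j)
            (pair_lt (a := 2 * j + 2) (b := 2 * j + 3) hq (by ring)) (pow_pos hq1 _)
      _ = _ := (pow_add _ _ _).symm
  · -- m = 2k+1
    rw [Finset.prod_range_succ, Finset.sum_range_succ, altF_even]
    calc _ < q ^ (∑ i ∈ Finset.range (2 * k), (i + 2)) * q ^ (2 * k + 2) :=
          Nat.mul_lt_mul_of_le_of_lt (altProd_even_le hq k) (sub_one_lt_pow hq1 _) (pow_pos hq1 _)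
      _ = _ := (pow_add _ _ _).symm

theorem altF_not_dvd {p q : ℕ} (hp : p.Prime) (hq : p ∣ q) (hq0 : q ≠ 0) (i : ℕ) :
    ¬ p ∣ altF q i := by
  unfold altF
  split_ifs
  · exact not_dvd_add_one hp hq (by omega)
  · exact not_dvd_sub_one hp hq hq0 (by omega)

end Cfsg.Agent.Helper39.LieOrd
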